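import Groth.Agent.Alg6.AssDepth
import Mathlib.RingTheory.Ideal.MinimalPrime.Noetherian
import Mathlib.RingTheory.Localization.AtPrime.Basic
import Mathlib.RingTheory.Nilpotent.Lemmas

/-! # Hartshorne's connectedness lemma -/

universe u

namespace Groth.Agent.HartConn

open IsLocalRing RingTheory.Sequence

theorem eq_bot_or_eq_bot {R : Type u} [CommRing R] [IsNoetherianRing R] [IsLocalRing R]
    (hd : (2 : ℕ∞) ≤ LocCoh.depth R R) {a b : Ideal R} (hab : a * b = ⊥)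
    (hm : maximalIdeal R ≤ (a ⊔ b).radical) : a = ⊥ ∨ b = ⊥ := by
  obtain ⟨rs, hrs, hmem, hlen⟩ := Alg6.exists_length_ge_of_le_idealDepth
    (Alg6.maximal_smul_top_ne_top (R := R) (M := R)) (n := 2) (by exact_mod_cast hd)
  match rs, hlen with
  | x :: y :: rs, _ =>
    obtain ⟨hx, hy⟩ := (isWeaklyRegular_cons_iff R x (y :: rs)).1 hrs
    have hy' := ((isWeaklyRegular_cons_iff _ y rs).1 hy).1
    have hyc : ∀ c, x ∣ y * c → x ∣ c := by
      rintro c ⟨w, hw⟩
      have h0 : y • (Submodule.Quotient.mk c : QuotSMulTop x R) = y • 0 := by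
        rw [smul_zero, ← Submodule.Quotient.mk_smul, Submodule.Quotient.mk_eq_zero,
          Submodule.mem_smul_pointwise_iff_exists]
        exact ⟨w, trivial, hw.symm⟩
      obtain ⟨v, -, hv⟩ := (Submodule.mem_smul_pointwise_iff_exists _ _ _).1
        ((Submodule.Quotient.mk_eq_zero _).1 (hy' h0))
      exact ⟨v, hv.symm⟩
    have hyk : ∀ k c, x ∣ y ^ k * c → x ∣ c := by
      intro k
      induction k with
      | zero => simp
      | succ k ih => intro c h; rw [pow_succ', mul_assoc] at h; exact ih c (hyc _ h)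
    have hxy : ∀ j k c, x ^ j ∣ y ^ k * c → x ^ j ∣ c := by
      intro j k
      induction j with
      | zero => simp
      | succ j ih =>
        rintro c ⟨w, hw⟩
        obtain ⟨c', rfl⟩ := hyk k c ⟨x ^ j * w, by rw [hw]; ring⟩
        obtain ⟨v, hv⟩ := ih c' ⟨w, hx (show x * (y ^ k * c') = x * (x ^ j * w) by
          linear_combination hw)⟩
        exact ⟨v, by rw [hv]; ring⟩
    obtain ⟨i, hi⟩ := hm (hmem x (by simp))
    obtain ⟨k, hk⟩ := hm (hmem y (by simp))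
    obtain ⟨α, hα, β, hβ, h1⟩ := Submodule.mem_sup.1 hi
    obtain ⟨α', hα', β', hβ', h2⟩ := Submodule.mem_sup.1 hk
    have h0 : ∀ s ∈ a, ∀ t ∈ b, s * t = 0 := fun s hs t ht =>
      (Submodule.mem_bot R).1 (hab ▸ Ideal.mul_mem_mul hs ht)
    obtain ⟨c, hc⟩ := hxy i k α ⟨α', by
      linear_combination α' * h1 - α * h2 + h0 α hα β' hβ' - h0 α' hα' β hβ⟩
    have hcc : c * (1 - c) = 0 := by
      have hb : β = x ^ i * (1 - c) := by linear_combination h1 - hc
      refine hx.pow i (show x ^ i • (c * (1 - c)) = x ^ i • (0 : R) from ?_)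
      refine hx.pow i (show x ^ i • (x ^ i • (c * (1 - c))) = x ^ i • (x ^ i • (0 : R)) from ?_)
      simp only [smul_eq_mul, mul_zero]
      linear_combination h0 α hα β hβ - β * hc - x ^ i * c * hb
    have hkill : ∀ s t : R, s * t = 0 → IsUnit s → t = 0 := fun s t h hs => by
      exact hs.mul_right_eq_zero.1 h
    rcases isUnit_or_isUnit_one_sub_self c with hu | hu
    · right
      have hc1 : c = 1 := (sub_eq_zero.1 (hkill c _ hcc hu)).symm
      refine eq_bot_iff.2 fun t ht => (Submodule.mem_bot R).2 (hx.pow i (show x ^ i • t = x ^ i • (0 : R) from ?_))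
      simp only [smul_eq_mul, mul_zero]
      linear_combination h0 α hα t ht - t * hc - t * x ^ i * hc1
    · left
      have hc0 : c = 0 := hkill (1 - c) c (by rw [mul_comm]; exact hcc) hu
      refine eq_bot_iff.2 fun t ht => (Submodule.mem_bot R).2 (hx.pow i (show x ^ i • t = x ^ i • (0 : R) from ?_))
      simp only [smul_eq_mul, mul_zero]
      linear_combination h0 t ht β hβ - t * h1 + t * hc + t * x ^ i * hc0

/-- Two groups of minimal primes cannot meet only at a point of depth `≥ 2`. -/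
theorem exists_meet {A : Type u} [CommRing A] [IsNoetherianRing A] (P1 P2 : Set (Ideal A))
    (hP : P1 ∪ P2 = minimalPrimes A) (hdisj : Disjoint P1 P2) :
    ∃ a b : Ideal A, PrimeSpectrum.zeroLocus (a : Set A) ∪ PrimeSpectrum.zeroLocus (b : Set A) = Set.univ ∧
      (∀ p ∈ P1, a ≤ p) ∧ (∀ p ∈ P2, b ≤ p) ∧
      ∀ P ∈ (a ⊔ b).minimalPrimes, ∃ (hP : P.IsPrime), ∃ p1 ∈ P1, ∃ p2 ∈ P2, p1 ≤ P ∧ p2 ≤ P ∧
        ¬ (2 : ℕ∞) ≤ LocCoh.depth (Localization.AtPrime P) (Localization.AtPrime P) := by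
  classical
  have hfin : (minimalPrimes A).Finite := minimalPrimes.finite_of_isNoetherianRing A
  have hsub1 : P1 ⊆ minimalPrimes A := hP ▸ Set.subset_union_left
  have hsub2 : P2 ⊆ minimalPrimes A := hP ▸ Set.subset_union_right
  set a₀ := ∏ p ∈ (hfin.subset hsub1).toFinset, p
  set b₀ := ∏ p ∈ (hfin.subset hsub2).toFinset, p
  have hle1 : ∀ p ∈ P1, a₀ ≤ p := fun p hp =>
    Ideal.prod_le_inf.trans (Finset.inf_le ((hfin.subset hsub1).mem_toFinset.2 hp))
  have hle2 : ∀ p ∈ P2, b₀ ≤ p := fun p hp =>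
    Ideal.prod_le_inf.trans (Finset.inf_le ((hfin.subset hsub2).mem_toFinset.2 hp))
  have hnil : a₀ * b₀ ≤ nilradical A := by
    rw [nilradical, Ideal.zero_eq_bot, Ideal.radical_eq_sInf]
    refine le_sInf fun q ⟨_, hq⟩ => ?_
    haveI := hq
    obtain ⟨m, hm, hmq⟩ := Ideal.exists_minimalPrimes_le (show (⊥ : Ideal A) ≤ q from bot_le)
    rcases (hP.symm ▸ hm : m ∈ P1 ∪ P2) with h | h
    · exact Ideal.mul_le_left.trans ((hle1 m h).trans hmq)
    · exact Ideal.mul_le_right.trans ((hle2 m h).trans hmq)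
  obtain ⟨N, hN⟩ := (Ideal.FG.isNilpotent_iff_le_nilradical (IsNoetherian.noetherian _)).2 hnil
  have hab : a₀ ^ (N + 1) * b₀ ^ (N + 1) = ⊥ := by
    rw [← mul_pow, pow_succ, hN, zero_mul, Ideal.zero_eq_bot]
  refine ⟨a₀ ^ (N + 1), b₀ ^ (N + 1), ?_, fun p hp => (Ideal.pow_le_self (by omega)).trans (hle1 p hp),
    fun p hp => (Ideal.pow_le_self (by omega)).trans (hle2 p hp), fun P hPm => ?_⟩
  · rw [← PrimeSpectrum.zeroLocus_mul, hab]
    exact PrimeSpectrum.zeroLocus_bot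
  haveI hPp : P.IsPrime := hPm.1.1
  have hdown : ∀ (Q : Set (Ideal A)) (hQ : Q ⊆ minimalPrimes A) (P : Ideal A), P.IsPrime →
      (∏ p ∈ (hfin.subset hQ).toFinset, p) ^ (N + 1) ≤ P → ∃ p ∈ Q, p ≤ P := fun Q hQ P hP' h => by
    obtain ⟨p, hp, hpP⟩ := (Ideal.IsPrime.prod_le hP').1 ((Ideal.IsPrime.pow_le_iff (by omega)).1 h)
    exact ⟨p, (hfin.subset hQ).mem_toFinset.1 hp, hpP⟩
  obtain ⟨p1, hp1, hp1P⟩ := hdown P1 hsub1 P hPp (le_sup_left.trans hPm.1.2)
  obtain ⟨p2, hp2, hp2P⟩ := hdown P2 hsub2 P hPp (le_sup_right.trans hPm.1.2)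
  refine ⟨hPp, p1, hp1, p2, hp2, hp1P, hp2P, fun hd => ?_⟩
  let L := Localization.AtPrime P
  have hloc : ∀ I : Ideal A, I.map (algebraMap A L) = ⊥ → ∀ q : Ideal A, q.IsPrime → q ≤ P → I ≤ q := by
    intro I hI q hq hqP r hr
    have h0 : algebraMap A L r = 0 := (Submodule.mem_bot L).1 (hI ▸ Ideal.mem_map_of_mem _ hr)
    obtain ⟨⟨s, hs⟩, hsr⟩ := (IsLocalization.map_eq_zero_iff P.primeCompl L r).1 h0
    exact (hq.mem_or_mem (show s * r ∈ q by rw [hsr]; exact q.zero_mem)).resolve_left fun h => hs (hqP h)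
  have hrad : maximalIdeal L ≤ ((a₀ ^ (N + 1)).map (algebraMap A L) ⊔ (b₀ ^ (N + 1)).map (algebraMap A L)).radical := by
    rw [← Ideal.map_sup, Ideal.radical_eq_sInf]
    refine le_sInf fun Q ⟨hQ, hQp⟩ => ?_
    haveI := hQp
    obtain ⟨-, hd⟩ := (IsLocalization.isPrime_iff_isPrime_disjoint P.primeCompl L Q).1 hQp
    have hle : Q.comap (algebraMap A L) ≤ P := fun r hr => by
      by_contra h; exact Set.disjoint_left.1 hd h hr
    have hPQ : P ≤ Q.comap (algebraMap A L) :=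
      hPm.2 ⟨Ideal.comap_isPrime _ _, Ideal.le_comap_of_map_le hQ⟩ hle
    rw [← Localization.AtPrime.map_eq_maximalIdeal]
    exact Ideal.map_le_iff_le_comap.2 hPQ
  rcases eq_bot_or_eq_bot hd (by rw [← Ideal.map_mul, hab, Ideal.map_bot]) hrad with h | h
  · obtain ⟨q, hq, hqle⟩ := hdown P1 hsub1 p2 (hsub2 hp2).1.1 (hloc _ h p2 (hsub2 hp2).1.1 hp2P)
    exact Set.disjoint_left.1 hdisj hq (le_antisymm hqle ((hsub2 hp2).2 ⟨(hsub1 hq).1.1, bot_le⟩ hqle) ▸ hp2)
  · obtain ⟨q, hq, hqle⟩ := hdown P2 hsub2 p1 (hsub1 hp1).1.1 (hloc _ h p1 (hsub1 hp1).1.1 hp1P)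
    exact Set.disjoint_left.1 hdisj (le_antisymm hqle ((hsub1 hp1).2 ⟨(hsub2 hq).1.1, bot_le⟩ hqle) ▸ hp1) hq

end Groth.Agent.HartConn
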